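import Cfsg.Agent.H570.Ore.Num

/-!
# S4173, row B: the numerical part at the prime 23, with the residues modulo 11 (helper570)

`n ≠ 1, 4371, 91884` prime to 23 is at least `1411833` (`n ≡ ± 1 (23)`), resp. `2159274` (`n ≡ ± 11 (23)`).
-/

set_option autoImplicit false

namespace Cfsg.Agent.H570.TC.NumB

open Cfsg.Agent.H653.Sieve Cfsg.Agent.H570.Ore.Num

/-- the residues modulo 11 -/
def r11 (n : ℕ) : Bool := r3 11 n || (r2 11 4 n || r2 11 5 n)

/-- the test -/
def chk (n : ℕ) : Bool :=
  bif Nat.beq n 1 then true else
  bif Nat.beq n 4371 then true else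
  bif Nat.beq n 91884 then true else
  bif r2 23 1 n then
    bif Nat.ble 1411833 n then true else
    bif !(r3 47 n || r2 47 23 n) then true else
    bif !(r3 31 n || r2 31 15 n) then true else
    bif !(r3 19 n) then true else
    bif !(r3 17 n || r2 17 2 n) then true else
    bif !(r11 n) then true else
    bif r2 31 15 n && !(r3 47 n) then true else dead n
  else bif r2 23 11 n then
    bif !(r3 47 n) then true else
    bif !(r3 31 n) then true else
    bif !(r3 19 n) then true else
    bif !(r3 17 n || r2 17 2 n) then true else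
    bif !(r11 n) then true else dead n
  else true

set_option maxRecDepth 100000 in
theorem check : allDiv (2159274 * 2159274) chk L 1 = true := by decide +kernel

/-- **The numerical statement.** -/
theorem num {n : ℕ} (hn : n ∣ 4154781481226426191177580544000000) (h1 : n ≠ 1) (h0 : n ≠ 4371) (h0' : n ≠ 91884)
    (h47 : r3 47 n = true ∨ r2 47 23 n = true) (h31 : r3 31 n = true ∨ r2 31 15 n = true) (h19 : r3 19 n = true)
    (h17 : r3 17 n = true ∨ r2 17 2 n = true) (h11 : r11 n = true)
    (hr31 : r2 31 15 n = true → r3 47 n = true)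
    (hreal : r2 23 11 n = true → r3 47 n = true ∧ r3 31 n = true)
    {m : ℕ} (hm1 : 1 ≤ m) (hm : 4032 * m ≤ n) (hd : n ∣ 47953709766144000 * m)
    (hm23 : m % 23 = 0 ∨ m % 23 = n % 23) :
    (r2 23 1 n = true → 1411833 ≤ n) ∧ (r2 23 11 n = true → 2159274 ≤ n) := by
  have hn0 : 0 < n := Nat.pos_of_dvd_of_pos hn (by norm_num)
  have key : n < 2159274 → chk n = true := by
    intro h
    have h2 := allDiv_spec L_prime check n (by rw [fac]; exact hn) (by rw [one_mul]; exact Nat.mul_self_lt_mul_self h)
    rwa [one_mul] at h2
  have hdead : dead n ≠ true := fun h => dead_spec hn0 h hm1 hm hd hm23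
  have hb1 : Nat.beq n 1 = false := by
    rw [Bool.eq_false_iff]
    intro h
    exact h1 (Nat.eq_of_beq_eq_true h)
  have hb0 : Nat.beq n 4371 = false := by
    rw [Bool.eq_false_iff]
    intro h
    exact h0 (Nat.eq_of_beq_eq_true h)
  have hb0' : Nat.beq n 91884 = false := by
    rw [Bool.eq_false_iff]
    intro h
    exact h0' (Nat.eq_of_beq_eq_true h)
  have h47' : (!(r3 47 n || r2 47 23 n)) = false := by
    rcases h47 with h | h <;> rw [h] <;> simp
  have h31' : (!(r3 31 n || r2 31 15 n)) = false := by
    rcases h31 with h | h <;> rw [h] <;> simp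
  have h17' : (!(r3 17 n || r2 17 2 n)) = false := by
    rcases h17 with h | h <;> rw [h] <;> simp
  have h19' : (!(r3 19 n)) = false := by rw [h19]; rfl
  have h11' : (!(r11 n)) = false := by rw [h11]; rfl
  have hr31' : (r2 31 15 n && !(r3 47 n)) = false := by
    rcases Bool.eq_false_or_eq_true (r2 31 15 n) with h | h
    · rw [h, hr31 h]; rfl
    · rw [h]; rfl
  constructor
  · intro h23
    by_contra hlt
    have h2 := key (by omega)
    have h3 : Nat.ble 1411833 n = false := by
      rw [Bool.eq_false_iff]
      intro h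
      exact hlt (Nat.le_of_ble_eq_true h)
    rw [chk, hb1, hb0, hb0', h23, h3, h47', h31', h19', h17', h11', hr31'] at h2
    simp only [cond_false, cond_true] at h2
    exact hdead h2
  · intro h23
    by_contra hlt
    have h2 := key (by omega)
    obtain ⟨h4, h5⟩ := hreal h23
    have h4' : (!(r3 47 n)) = false := by rw [h4]; rfl
    have h5' : (!(r3 31 n)) = false := by rw [h5]; rfl
    have h6 : r2 23 1 n = false := by
      rw [Bool.eq_false_iff]
      intro h
      have h7 := r2_spec.2 h
      have h8 := r2_spec.2 h23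
      omega
    rw [chk, hb1, hb0, hb0', h6, h23, h4', h5', h19', h17', h11'] at h2
    simp only [cond_false, cond_true] at h2
    exact hdead h2

end Cfsg.Agent.H570.TC.NumB
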