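import Cfsg.Agent.H570.TC.Val
import Cfsg.Agent.H570.TC.NumB
import Cfsg.Agent.H570.Ore.Abs
import Cfsg.Agent.H903.TC.Cls

/-!
# S4173, row B: T1 at the pair (23, 23), from the local data (helper570)

* `mult` : at most 6 characters of degree 91884;
* `prd` : `|C(g)| ≤ 960000000` gives `g ∈ x^G (x⁻¹)^G`, `x` of order 23.
-/

set_option autoImplicit false
set_option linter.unusedSectionVars false

open Cfsg Subgroup
open scoped ComplexConjugate

namespace Cfsg.Agent.H570.TC.Abs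

open Cfsg.Agent.Characters.Core Cfsg.Agent.H570.Ore.Num
open Cfsg.Agent.SmallSimple.ThetaSetup
open Cfsg.Agent.H653.Sieve Cfsg.Agent.H570.TC.Val
open Cfsg.Agent.H570.Ore.Abs (Dt NB exists_blk res real31)

universe u

variable {G : Type u} [Group G] [Finite G] [IsSimpleGroup G] {Z : G}

/-- two classes of elements of order 23 -/
theorem classes (D : Dt G Z) {x : G} (hx : orderOf x = 23) (hc : Nat.card (centralizer ({x} : Set G)) = 46) {a : G}
    (ha : orderOf a = 23) : IsConj x a ∨ IsConj x⁻¹ a := by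
  refine H903.TC.Cls.two_classes (r := 23) (m := 11) (c := 46) (by norm_num) (by norm_num) D.card (by norm_num) hx
    hc (by norm_num) ?_ ?_ ha
  · decide +kernel
  · exact H903.TC.Cls.hj_of (by decide +kernel)

/-- `1` for the exceptional characters -/
def ex (w : ℤ) : ℤ := if w = 1 ∨ w = -1 then 1 else 0

/-- the data at 23 -/
structure Dat (Z x : G) (P : Sylow 23 G) (W U : IrrCharacter G → ℤ) : Prop where
  card : Nat.card P = 23
  col : IsCol (P : Subgroup G) 11 W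
  zcol : ∀ χ : IrrCharacter G, (11 : ℂ) * U χ = zsum (P : Subgroup G) Z (χ : G → ℂ)
  val : ∀ χ : IrrCharacter G, (‖(χ : G → ℂ) x‖ ^ 2 = 0 ∧ W χ = 0) ∨ (‖(χ : G → ℂ) x‖ ^ 2 = 1 ∧ (W χ = 2 ∨ W χ = -2)) ∨
    (‖(χ : G → ℂ) x‖ ^ 2 = 6 ∧ (W χ = 1 ∨ W χ = -1))
  zval : ∀ χ : IrrCharacter G, U χ = W χ ∨ U χ = -W χ
  zdvd : ∀ (χ : IrrCharacter G) (c : ℤ), (χ : G → ℂ) Z = c → (23 : ℤ) ∣ c + 11 * U χ
  comm : ∀ y ∈ (P : Subgroup G), y ≠ 1 → orderOf (y * Z) = 46

theorem exists_dat (D : Dt G Z) {x : G} (hx : orderOf x = 23) (hxZ : x * Z = Z * x)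
    (hc : Nat.card (centralizer ({x} : Set G)) = 46) :
    ∃ (P : Sylow 23 G) (W U : IrrCharacter G → ℤ), Dat Z x P W U ∧
      Nat.card (normalizer ((P : Subgroup G) : Set G)) = 23 * 11 * 2 := by
  have hF23 : Fact (Nat.Prime 23) := ⟨by norm_num⟩
  obtain ⟨P, K, hK, hP, hPx, hp2, ht, he, hKc⟩ := exists_blk D.nonab D.card hx (k := 2) (by rw [hc])
    11 2 [(0, 0), (1, 2), (22, -2), (11, -1), (12, 1)] 0 false (by decide +kernel)
  have hZo : orderOf Z = 2 := orderOf_eq_prime (by rw [pow_two]; exact D.Z_sq) D.Z_ne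
  have hZK : Z ∈ K := by
    rw [hK Z]
    refine ⟨?_, ?_⟩
    · rw [hPx, mem_centralizer_iff]
      rintro _ ⟨i, rfl⟩
      exact ((show Commute x Z from hxZ).zpow_left i).eq
    · rw [hZo]; norm_num
  have : Finite (IrrCharacter G) := finite_irr
  have := Fintype.ofFinite (IrrCharacter G)
  have hval := fun χ : IrrCharacter G => exists_value hK hP he ht χ
  choose W hW1 hW2 using hval
  have hz := fun χ : IrrCharacter G => Val.zval hK hP hKc hZK hp2 he ht χ
  have hU : ∀ χ : IrrCharacter G, ∃ u : ℤ, (11 : ℂ) * u = zsum (P : Subgroup G) Z (χ : G → ℂ) ∧ (u = W χ ∨ u = -W χ) := by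
    intro χ
    have h1 := hW1 χ
    rcases hz χ with h | h
    · refine ⟨W χ, ?_, Or.inl rfl⟩
      rw [h, ← h1]; norm_num
    · refine ⟨-W χ, ?_, Or.inr rfl⟩
      rw [h, ← h1]; push_cast; ring
  choose U hU1 hU2 using hU
  refine ⟨P, W, U, ⟨hP, hW1, hU1, ?_, hU2, ?_, ?_⟩, ?_⟩
  · intro χ
    have h1 := Val.val hK hP hKc.le he ht hx hPx (fun a ha => classes D hx hc ha) χ (hW1 χ)
    rcases h1 with h1 | ⟨h1, h2⟩ | ⟨h1, h2⟩
    · exact Or.inl h1
    · exact Or.inr (Or.inl ⟨h1, by exact_mod_cast h2⟩)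
    · refine Or.inr (Or.inr ⟨?_, h2⟩)
      push_cast at h1
      linarith
  · intro χ c hc
    have h1 := Val.zdvd hK hP hKc hZK D.Z_ne χ (e := 11) (u := U χ) hc (by rw [← hU1 χ]; norm_num)
    exact_mod_cast h1
  · intro y hy hy1
    have hyo : orderOf y = 23 := Blocks.CyclicOrtho.orderOf_eq P hP hy hy1
    have hcm : Commute y Z := hK.comm hy hZK
    rw [hcm.orderOf_mul_eq_mul_orderOf_of_coprime (by rw [hyo, hZo]; norm_num), hyo, hZo]
  · have hle : centralizer ((P : Subgroup G) : Set G) ≤ normalizer ((P : Subgroup G) : Set G) :=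
      centralizer_le_normalizer _
    have h3 := Subgroup.index_mul_card ((centralizer ((P : Subgroup G) : Set G)).subgroupOf
      (normalizer ((P : Subgroup G) : Set G)))
    have hCP : Nat.card (centralizer ((P : Subgroup G) : Set G)) = 23 * 2 := by
      rw [SmallSimple.ThetaOrtho.card_centralizer hK hP, hKc]
    rw [Nat.card_congr (Subgroup.subgroupOfEquivOfLe hle).toEquiv, hCP] at h3
    have h4 : ((centralizer ((P : Subgroup G) : Set G)).subgroupOf (normalizer ((P : Subgroup G) : Set G))).index = 11 := he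
    rw [h4] at h3
    rw [← h3]

section Sums

variable [Fintype (IrrCharacter G)] {x : G} {P : Sylow 23 G} {W U : IrrCharacter G → ℤ}

/-- the residue -/
theorem Dat.dvd (H : Dat Z x P W U) (χ : IrrCharacter G) : (23 : ℤ) ∣ (charDegree (χ : G → ℂ) : ℤ) + 11 * W χ := by
  have h1 := H.col.dvd χ
  rw [show Nat.card (P : Subgroup G) = 23 from H.card] at h1
  exact_mod_cast h1

theorem Dat.sq (H : Dat Z x P W U) (hN : Nat.card (normalizer ((P : Subgroup G) : Set G)) = 23 * 11 * 2) :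
    ∑ χ : IrrCharacter G, W χ * W χ = 92 := by
  have hF23 : Fact (Nat.Prime 23) := ⟨by norm_num⟩
  have h1 := IsCol.sq (t := 2) (k := 2) H.card H.col hN (by norm_num)
  rw [h1]; norm_num

theorem not_conj {a b : G} (h : orderOf a ≠ orderOf b) : ¬ IsConj a b := by
  intro hab
  obtain ⟨c, rfl⟩ := isConj_iff.1 hab
  apply h
  exact ((MulAut.conj c).orderOf_eq a).symm

/-- orthogonality of `y` and `y Z` -/
theorem Dat.orth (H : Dat Z x P W U) : ∑ χ : IrrCharacter G, W χ * U χ = 0 := by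
  classical
  have hF23 : Fact (Nat.Prime 23) := ⟨by norm_num⟩
  have := Fintype.ofFinite {y : (P : Subgroup G) // y ≠ 1}
  have h1 := orth_fam (G := G) (f := fun y : {y : (P : Subgroup G) // y ≠ 1} => ((y : (P : Subgroup G)) : G) * 1)
    (g := fun y : {y : (P : Subgroup G) // y ≠ 1} => ((y : (P : Subgroup G)) : G) * Z) (by
      intro i j
      apply not_conj
      rw [mul_one, H.comm _ j.1.2 (fun h => j.2 (Subtype.ext h)),
        Blocks.CyclicOrtho.orderOf_eq P H.card i.1.2 (fun h => i.2 (Subtype.ext h))]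
      norm_num)
  have h2 : ∀ χ : IrrCharacter G, (∑ y : {y : (P : Subgroup G) // y ≠ 1}, (χ : G → ℂ) (((y : (P : Subgroup G)) : G) * 1)) *
      conj (∑ y : {y : (P : Subgroup G) // y ≠ 1}, (χ : G → ℂ) (((y : (P : Subgroup G)) : G) * Z)) =
      121 * ((W χ * U χ : ℤ) : ℂ) := by
    intro χ
    rw [← zsum_eq, ← zsum_eq, ← csum_eq_zsum, ← H.col χ, ← H.zcol χ, map_mul, map_ofNat (starRingEnd ℂ) 11, map_intCast]
    push_cast
    ring
  rw [Finset.sum_congr rfl fun χ _ => h2 χ, ← Finset.mul_sum, mul_eq_zero, ← Int.cast_sum] at h1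
  rcases h1 with h1 | h1
  · norm_num at h1
  · exact_mod_cast h1

theorem Dat.orthq (H : Dat Z x P W U) {q : ℕ} [hq : Fact q.Prime] (hq23 : q ≠ 23) {Q : Sylow q G} (hQ : Nat.card Q = q)
    {e : ℕ} (he : e ≠ 0) {V : IrrCharacter G → ℤ} (hV : IsCol (Q : Subgroup G) e V) :
    ∑ χ : IrrCharacter G, (W χ - U χ) * V χ = 0 := by
  classical
  have hF23 : Fact (Nat.Prime 23) := ⟨by norm_num⟩
  have hWV : ∑ χ : IrrCharacter G, W χ * V χ = 0 :=
    orth_of_ne (Ne.symm hq23) H.card hQ H.col hV (by norm_num) he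
  have := Fintype.ofFinite {y : (P : Subgroup G) // y ≠ 1}
  have := Fintype.ofFinite {y : (Q : Subgroup G) // y ≠ 1}
  have h1 := orth_fam (G := G) (f := fun y : {y : (P : Subgroup G) // y ≠ 1} => ((y : (P : Subgroup G)) : G) * Z)
    (g := fun y : {y : (Q : Subgroup G) // y ≠ 1} => ((y : (Q : Subgroup G)) : G) * 1) (by
      intro i j
      apply not_conj
      rw [mul_one, H.comm _ i.1.2 (fun h => i.2 (Subtype.ext h)),
        Blocks.CyclicOrtho.orderOf_eq Q hQ j.1.2 (fun h => j.2 (Subtype.ext h))]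
      intro h
      rw [← h] at hq
      exact absurd hq.out (by norm_num))
  have h2 : ∀ χ : IrrCharacter G, (∑ y : {y : (P : Subgroup G) // y ≠ 1}, (χ : G → ℂ) (((y : (P : Subgroup G)) : G) * Z)) *
      conj (∑ y : {y : (Q : Subgroup G) // y ≠ 1}, (χ : G → ℂ) (((y : (Q : Subgroup G)) : G) * 1)) =
      (11 * e : ℂ) * ((U χ * V χ : ℤ) : ℂ) := by
    intro χ
    rw [← zsum_eq, ← zsum_eq, ← csum_eq_zsum, ← hV χ, ← H.zcol χ]
    simp
    ring
  rw [Finset.sum_congr rfl fun χ _ => h2 χ, ← Finset.mul_sum, mul_eq_zero, ← Int.cast_sum] at h1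
  have hUV : ∑ χ : IrrCharacter G, U χ * V χ = 0 := by
    rcases h1 with h1 | h1
    · exact absurd h1 (mul_ne_zero (by norm_num) (by exact_mod_cast he))
    · exact_mod_cast h1
  rw [Finset.sum_congr rfl fun χ _ => sub_mul (W χ) (U χ) (V χ), Finset.sum_sub_distrib, hWV, hUV, sub_zero]

/-- four exceptional characters -/
theorem Dat.ex (H : Dat Z x P W U) (hN : Nat.card (normalizer ((P : Subgroup G) : Set G)) = 23 * 11 * 2)
    (hc : Nat.card (centralizer ({x} : Set G)) = 46) : ∑ χ : IrrCharacter G, ex (W χ) = 4 := by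
  have h1 := H686.CharKit.sum_normSq x
  simp only [Complex.normSq_eq_norm_sq] at h1
  rw [hc] at h1
  have h2 := H.sq hN
  have h3 : ∀ χ : IrrCharacter G, (23 : ℝ) * (Abs.ex (W χ) : ℤ) = 4 * ‖(χ : G → ℂ) x‖ ^ 2 - ((W χ * W χ : ℤ) : ℝ) := by
    intro χ
    unfold Abs.ex
    rcases H.val χ with ⟨h, h'⟩ | ⟨h, h' | h'⟩ | ⟨h, h' | h'⟩ <;> rw [h, h'] <;> norm_num
  have h4 : (23 : ℝ) * ((∑ χ : IrrCharacter G, Abs.ex (W χ) : ℤ) : ℝ) = 92 := by
    push_cast
    rw [Finset.mul_sum, Finset.sum_congr rfl fun χ _ => h3 χ, Finset.sum_sub_distrib, ← Finset.mul_sum, h1, ← Int.cast_sum, h2]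
    norm_num
  have h5 : ((∑ χ : IrrCharacter G, Abs.ex (W χ) : ℤ) : ℝ) = ((4 : ℤ) : ℝ) := by
    push_cast at h4 ⊢
    linarith
  exact_mod_cast h5

/-- the values for a character of degree 91884 -/
theorem Dat.deg_special (D : Dt G Z) (H : Dat Z x P W U) (χ : IrrCharacter G)
    (h : charDegree (χ : G → ℂ) = 91884) (hχ : (χ : G → ℂ) ≠ 1) (hm23 : ∀ m : ℕ, (χ : G → ℂ) Z = ((91884 - 4096 * m : ℤ) : ℂ) →
      m % 23 = 0 ∨ m % 23 = 22) : W χ = -2 ∧ U χ = 2 := by
  have h1 := H.dvd χ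
  rw [h] at h1
  have hW : W χ = -2 := by
    rcases H.val χ with ⟨-, h'⟩ | ⟨-, h' | h'⟩ | ⟨-, h' | h'⟩ <;> rw [h'] at h1 <;> first | exact h' | (exfalso; revert h1; norm_num)
  refine ⟨hW, ?_⟩
  obtain ⟨k, hk⟩ := D.ext χ
  have hk1 : 1 ≤ k := Ore.Ext.one_le hχ D.Z_ne (c := 4096) (by norm_num) (by rw [hk]; push_cast; ring)
  have hp := D.pure χ k hk
  obtain ⟨m, rfl⟩ := Int.eq_ofNat_of_zero_le (by omega : 0 ≤ k)
  rw [h] at hk hp
  have h2 : (χ : G → ℂ) Z = ((91884 - 4096 * m : ℤ) : ℂ) := by rw [hk]; push_cast; ring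
  have h3 := hm23 m h2
  have hm : m = 22 := by
    have h4 : 4032 * m ≤ 91884 := by exact_mod_cast hp
    have h5 : 1 ≤ m := by exact_mod_cast hk1
    omega
  rw [hm] at h2
  have h4 := H.zdvd χ _ h2
  rcases H.zval χ with h' | h'
  · rw [h', hW] at h4
    exfalso
    revert h4
    norm_num
  · rw [h', hW]; norm_num

/-- **At most 6 characters of degree 91884.** -/
theorem mult (D : Dt G Z) (H : Dat Z x P W U) (hN : Nat.card (normalizer ((P : Subgroup G) : Set G)) = 23 * 11 * 2)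
    (hc : Nat.card (centralizer ({x} : Set G)) = 46)
    (hm23 : ∀ χ : IrrCharacter G, charDegree (χ : G → ℂ) = 91884 → ∀ m : ℕ,
      (χ : G → ℂ) Z = ((91884 - 4096 * m : ℤ) : ℂ) → m % 23 = 0 ∨ m % 23 = 22) :
    ∑ χ : IrrCharacter G, (if charDegree (χ : G → ℂ) = 91884 then (1 : ℤ) else 0) ≤ 6 := by
  classical
  have hF47 : Fact (Nat.Prime 47) := ⟨by norm_num⟩
  obtain ⟨x47, hx47, hc47⟩ := D.x47
  obtain ⟨Q, V, hQ, -, hV, hVok⟩ := exists_col D.nonab D.card hx47 (k := 1) (by rw [hc47])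
    23 2 [(0, 0), (1, 2), (46, -2), (23, -1), (24, 1)] 2 true (by decide +kernel)
  have horth := H.orthq (by norm_num) hQ (by norm_num) hV
  have hsq := H.sq hN
  have hex := H.ex hN hc
  have hWU := H.orth
  have hwl : ∀ χ : IrrCharacter G, (charDegree (χ : G → ℂ) % 47, V χ) ∈ [(0, 0), (1, 2), (46, -2), (23, -1), (24, 1)] :=
    fun χ => hVok.1 χ
  -- pointwise
  have key : ∀ χ : IrrCharacter G, 32 * (if charDegree (χ : G → ℂ) = 91884 then (1 : ℤ) else 0) - 2 * ((W χ - U χ) * V χ) ≤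
      2 * (W χ * W χ) - 2 * (W χ * U χ) + 4 * ex (W χ) := by
    intro χ
    have h1 := hwl χ
    simp only [List.mem_cons, Prod.mk.injEq, List.not_mem_nil, or_false] at h1
    split_ifs with h
    · have hχ : (χ : G → ℂ) ≠ 1 := by
        intro h2
        have h3 : charDegree (χ : G → ℂ) = 1 := by
          unfold charDegree
          rw [h2]; simp
        omega
      obtain ⟨hW, hU⟩ := H.deg_special D χ h hχ (hm23 χ h)
      have hV2 : V χ = -2 := by
        rw [h] at h1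
        rcases h1 with h1 | h1 | h1 | h1 | h1
        · exact absurd h1.1 (by norm_num)
        · exact absurd h1.1 (by norm_num)
        · exact h1.2
        · exact absurd h1.1 (by norm_num)
        · exact absurd h1.1 (by norm_num)
      rw [hW, hU, hV2]
      unfold ex
      norm_num
    · have hV2 : V χ = 0 ∨ V χ = 2 ∨ V χ = -2 ∨ V χ = -1 ∨ V χ = 1 := by tauto
      unfold ex
      rcases H.val χ with ⟨-, h'⟩ | ⟨-, h' | h'⟩ | ⟨-, h' | h'⟩ <;> rcases H.zval χ with h'' | h'' <;> rw [h'', h'] <;>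
        rcases hV2 with h3 | h3 | h3 | h3 | h3 <;> rw [h3] <;> norm_num
  have h1 := Finset.sum_le_sum fun χ (_ : χ ∈ (Finset.univ : Finset (IrrCharacter G))) => key χ
  rw [Finset.sum_sub_distrib, ← Finset.mul_sum, ← Finset.mul_sum, horth, Finset.sum_add_distrib, Finset.sum_sub_distrib,
    ← Finset.mul_sum, ← Finset.mul_sum, ← Finset.mul_sum, hsq, hWU, hex] at h1
  omega

end Sums

end Cfsg.Agent.H570.TC.Abs
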