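import Cfsg.Agent.H570.TC.NumB
import Cfsg.Agent.H570.Ore.Abs

/-!
# S4173, row B: the degrees (helper570)

* `real47` : the characters `χ(1) ≡ ± 23 (47)` are real off the elements of order divisible by 47;
* `degs` : `χ(1) ≥ 1411833`, resp. `2159274`.
-/

set_option autoImplicit false

open Cfsg Subgroup
open scoped ComplexConjugate

namespace Cfsg.Agent.H570.TC.Deg

open Cfsg.Agent.Characters.Core Cfsg.Agent.H570.Ore.Num Cfsg.Agent.H570.Ore
open Cfsg.Agent.SmallSimple.ThetaSetup Cfsg.Agent.SmallSimple.PrimeLocal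
open Cfsg.Agent.H653.Sieve Cfsg.Agent.H651.Two
open Cfsg.Agent.H570.Ore.Abs (Dt NB exists_blk res real31)

universe u

variable {G : Type u} [Group G] [Finite G] [IsSimpleGroup G] {Z : G}

/-- the characters `χ(1) ≡ ± 23 (47)` are real off the elements of order divisible by 47 -/
theorem real47 (D : Dt G Z) (χ : IrrCharacter G) (h : r2 47 23 (charDegree (χ : G → ℂ)) = true) {x : G}
    (hx : ¬ 47 ∣ orderOf x) : conj ((χ : G → ℂ) x) = (χ : G → ℂ) x := by
  classical
  have hp : Nat.Prime 47 := by norm_num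
  have hF : Fact (Nat.Prime 47) := ⟨hp⟩
  obtain ⟨x47, hx47, hc47⟩ := D.x47
  obtain ⟨NE, X, h47⟩ := H65.Ore.exists_dat D.nonab hp D.card hx47 hc47 23 2 311 (by decide +kernel)
  have hmem : ∀ ψ : IrrCharacter G, charDegree (ψ : G → ℂ) = charDegree (χ : G → ℂ) → ψ ∈ X := by
    intro ψ hψ
    have h1 := r2_spec.2 h
    rw [← hψ] at h1
    by_contra hX
    by_cases hNE : ψ ∈ NE
    · have h2 := h47.ne_deg ψ hNE
      omega
    · have h2 : ¬ ψ ∈ X := hX
      have hpg : IsPGroup 47 (zpowers x47) := IsPGroup.of_card (n := 1) (by rw [Nat.card_zpowers, hx47, pow_one])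
      have h4 : Nat.card (zpowers x47) = 47 := by rw [Nat.card_zpowers, hx47]
      have hidx : ¬ 47 ∣ (zpowers x47).index := by
        intro h5
        have h6 : 47 ^ 2 ∣ Nat.card G := by
          rw [← (zpowers x47).card_mul_index, h4, pow_two]
          exact Nat.mul_dvd_mul_left 47 h5
        rw [D.card] at h6
        revert h6
        norm_num
      let P : Sylow 47 G := hpg.toSylow hidx
      have h3 : (47 : ℤ) ∣ charDegree (ψ : G → ℂ) := by
        refine Blk.deg_zero (P := P) (by exact h4) fun y hy => h47.off ψ hNE h2 y ?_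
        exact Blocks.CyclicOrtho.orderOf_eq P (by exact h4) y.2 fun h => hy (Subtype.ext h)
      have h6 : 47 ∣ charDegree (ψ : G → ℂ) := by exact_mod_cast h3
      omega
  let χ' : IrrCharacter G := ⟨fun g => conj ((χ : G → ℂ) g), isIrr_conj χ.2⟩
  have hdeg : charDegree (χ' : G → ℂ) = charDegree (χ : G → ℂ) := by
    have h1 := Blk.deg_cast χ'
    have h2 : (χ' : G → ℂ) 1 = (charDegree (χ : G → ℂ) : ℂ) := by
      show conj ((χ : G → ℂ) 1) = _
      rw [Blk.deg_cast]; simp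
    rw [h2] at h1
    exact_mod_cast h1.symm
  exact h47.eq_of χ' (hmem χ' hdeg) χ (hmem χ rfl) x hx

/-- `m` modulo 23 -/
theorem m23 (D : Dt G Z) (χ : IrrCharacter G) (m : ℕ)
    (hk : (χ : G → ℂ) Z = (charDegree (χ : G → ℂ) : ℂ) - 4096 * m) :
    m % 23 = 0 ∨ m % 23 = charDegree (χ : G → ℂ) % 23 := by
  have hF23 : Fact (Nat.Prime 23) := ⟨by norm_num⟩
  obtain ⟨x23, hx23, hxZ, hc23⟩ := D.x23
  obtain ⟨P', K', hK', hP', hPx', hp2', ht', he', hKc'⟩ := exists_blk D.nonab D.card hx23 (k := 2) (by rw [hc23])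
    11 2 [(0, 0), (1, 2), (22, -2), (11, -1), (12, 1)] 0 false (by decide +kernel)
  have hZK : Z ∈ K' := by
    rw [hK' Z]
    refine ⟨?_, ?_⟩
    · rw [hPx', mem_centralizer_iff]
      rintro _ ⟨i, rfl⟩
      exact ((show Commute x23 Z from hxZ).zpow_left i).eq
    · intro h
      have h1 : orderOf Z ∣ 2 := orderOf_dvd_of_pow_eq_one (by rw [pow_two]; exact D.Z_sq)
      have h2 := h.trans h1
      revert h2
      norm_num
  have h1 := Blk.mod_invol hK' hP' hKc' hZK D.Z_ne he' ht' χ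
    (c := (charDegree (χ : G → ℂ) : ℤ) - 4096 * m) (by rw [hk]; push_cast; ring)
  have e23 : ((23 : ℕ) : ℤ) = 23 := rfl
  rw [e23] at h1
  rcases h1 with ⟨h1, h2⟩ | h1 | h1
  · left; omega
  · left; omega
  · right; omega

theorem degs (D : Dt G Z) (h11 : ∀ χ : IrrCharacter G, NumB.r11 (charDegree (χ : G → ℂ)) = true) (χ : IrrCharacter G)
    (hχ : (χ : G → ℂ) ≠ 1) (h0 : charDegree (χ : G → ℂ) ≠ 4371) (h0' : charDegree (χ : G → ℂ) ≠ 91884) :
    (r2 23 1 (charDegree (χ : G → ℂ)) = true → 1411833 ≤ charDegree (χ : G → ℂ)) ∧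
      (r2 23 11 (charDegree (χ : G → ℂ)) = true → 2159274 ≤ charDegree (χ : G → ℂ)) := by
  have hdvd : charDegree (χ : G → ℂ) ∣ NB := by rw [← D.card]; exact H511.Ore.charDegree_dvd χ
  have hn1 : charDegree (χ : G → ℂ) ≠ 1 := by
    have := H511.Ore.two_le_charDegree D.nonab χ hχ
    omega
  obtain ⟨k, hk⟩ := D.ext χ
  have hk1 : 1 ≤ k := Ext.one_le hχ D.Z_ne (c := 4096) (by norm_num) (by rw [hk]; push_cast; ring)
  obtain ⟨m, rfl⟩ := Int.eq_ofNat_of_zero_le (by omega : 0 ≤ k)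
  have hm1 : 1 ≤ m := by exact_mod_cast hk1
  have hm : 4032 * m ≤ charDegree (χ : G → ℂ) := by exact_mod_cast D.pure χ m hk
  have hd : charDegree (χ : G → ℂ) ∣ 47953709766144000 * m := by
    have h1 := Ext.dvd (χ := χ) (c := 4096) (k := m) D.idx (by rw [hk]; push_cast; ring)
    have h2 : 11707448673375 * 4096 * m = 47953709766144000 * m := by norm_num
    rwa [h2] at h1
  -- 47
  have hF47 : Fact (Nat.Prime 47) := ⟨by norm_num⟩
  have hF31 : Fact (Nat.Prime 31) := ⟨by norm_num⟩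
  have hF23 : Fact (Nat.Prime 23) := ⟨by norm_num⟩
  obtain ⟨x47, hx47, hc47⟩ := D.x47
  obtain ⟨P, K, hK, hP, -, hp2, ht, he, hKc⟩ := exists_blk D.nonab D.card hx47 (k := 1) (by rw [hc47])
    23 2 [(0, 0), (1, 2), (46, -2), (23, -1), (24, 1)] 2 true (by decide +kernel)
  obtain ⟨h47, h47'⟩ := res hK hP (by omega) hp2 he ht (by decide) (by norm_num) χ
  -- 31
  obtain ⟨x31, hx31, hc31⟩ := D.x31
  obtain ⟨P₃, K₃, hK₃, hP₃, -, hp2₃, ht₃, he₃, hKc₃⟩ := exists_blk D.nonab D.card hx31 (k := 1) (by rw [hc31])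
    15 2 [(0, 0), (1, 2), (30, -2), (15, -1), (16, 1)] 2 true (by decide +kernel)
  obtain ⟨h31, h31'⟩ := res hK₃ hP₃ (by omega) hp2₃ he₃ ht₃ (by decide) (by norm_num) χ
  -- 23
  obtain ⟨x23, hx23, hxZ, hc23⟩ := D.x23
  obtain ⟨P', K', hK', hP', hPx', hp2', ht', he', hKc'⟩ := exists_blk D.nonab D.card hx23 (k := 2) (by rw [hc23])
    11 2 [(0, 0), (1, 2), (22, -2), (11, -1), (12, 1)] 0 false (by decide +kernel)
  obtain ⟨-, h23'⟩ := res hK' hP' (by omega) hp2' he' ht' (by decide) (by norm_num) χ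
  have hm23 := m23 D χ m (by rw [hk]; push_cast; ring)
  -- 19 and 17
  have h19 : r3 19 (charDegree (χ : G → ℂ)) = true := by
    obtain ⟨x, hx, hc⟩ := D.x19
    have h1 := H511.Ore.res_of_has D.nonab D.card (c := ⟨19, 2, 18, 1, [(0, 0), (1, 1), (18, -1)], 0, false⟩)
      ⟨by norm_num, x, hx, hc.trans (by norm_num)⟩ (by decide +kernel) χ
    simp only [List.any_cons, List.any_nil, Bool.or_false, Bool.or_eq_true, Nat.beq_eq] at h1
    exact r3_spec h1
  have h17 : r3 17 (charDegree (χ : G → ℂ)) = true ∨ r2 17 2 (charDegree (χ : G → ℂ)) = true := by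
    obtain ⟨x, hx, hc⟩ := D.x17
    have h1 := H511.Ore.res_of_has D.nonab D.card
      (c := ⟨17, 4, 16, 1, [(0, 0), (1, 1), (16, -1), (2, 2), (15, -2)], 0, false⟩)
      ⟨by norm_num, x, hx, hc.trans (by norm_num)⟩ (by decide +kernel) χ
    simp only [List.any_cons, List.any_nil, Bool.or_false, Bool.or_eq_true, Nat.beq_eq] at h1
    rcases h1 with h1 | h1 | h1 | h1 | h1
    · exact Or.inl (r3_spec (Or.inl h1))
    · exact Or.inl (r3_spec (Or.inr (Or.inl h1)))
    · exact Or.inl (r3_spec (Or.inr (Or.inr h1)))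
    · exact Or.inr (r2_spec.1 (Or.inl h1))
    · exact Or.inr (r2_spec.1 (Or.inr h1))
  refine NumB.num hdvd hn1 h0 h0' h47 h31 h19 h17 (h11 χ) (fun h => ?_) (fun h => ?_) hm1 hm hd hm23
  · exact h47' fun x hx => real31 D χ h (by rw [hx]; norm_num)
  · have hno : ∀ h3 : r3 23 (charDegree (χ : G → ℂ)) = true, False := by
      intro h3
      have h4 := r2_spec.2 h
      unfold r3 at h3
      rw [Bool.or_eq_true, Bool.or_eq_true, Nat.beq_eq, Nat.beq_eq, Nat.beq_eq] at h3
      omega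
    refine ⟨?_, ?_⟩
    · rcases h47 with h5 | h5
      · exact h5
      · exact (hno (h23' fun x hx => real47 D χ h5 (by rw [hx]; norm_num))).elim
    · rcases h31 with h5 | h5
      · exact h5
      · exact (hno (h23' fun x hx => real31 D χ h5 (by rw [hx]; norm_num))).elim

end Cfsg.Agent.H570.TC.Deg
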