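import Cfsg.Agent.H860.I4.BEleven
import Cfsg.Agent.H860.I4.SFive
import Cfsg.Agent.H671.J4.SFive
import Cfsg.Agent.H676.Deg.Val
import Cfsg.Agent.H570.Ore.RowB
import Cfsg.Agent.H570.TC.NumB

/-!
# S4173, row B: the degrees modulo 11 (helper570, after helper860 and helper705)

`C(x) = 11 × S₅` for `x` of order 11; `χ(1) ≡ 0, ± 1, ± 4, ± 5 (11)`.
-/

set_option autoImplicit false
set_option maxRecDepth 100000

open Cfsg Subgroup
open scoped ComplexConjugate

namespace Cfsg.Agent.H570.TC.Eleven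

open Cfsg.Agent.Characters.Core
open Cfsg.Agent.SmallSimple.ThetaSetup Cfsg.Agent.SmallSimple.ThetaOrtho
open Cfsg.Agent.BabyM Cfsg.Agent.BabyU.ClosModel Cfsg.Agent.BabyU.ClosLane
open Cfsg.Agent.H570.Ore

/-- **`|C(x)| = 1320`** (helper860) -/
theorem cent11 {x : Spor.BabyMonster} (hx : orderOf x = 11) :
    Nat.card (centralizer ({x} : Set Spor.BabyMonster)) = 1320 := by
  obtain ⟨φ, hφ, hk⟩ := H860.I4.exists_hom hx
  have h1 : Nat.card φ.ker = 11 := by
    have e : φ.ker ≃ zpowers x :=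
      { toFun := fun g => ⟨(g : ↥(centralizer ({x} : Set Spor.BabyMonster))), (hk _).1 g.2⟩
        invFun := fun g => ⟨⟨g, by
          obtain ⟨i, hi⟩ := mem_zpowers_iff.1 g.2
          rw [mem_centralizer_singleton_iff, ← hi]
          exact (Commute.refl x).zpow_left i⟩, (hk _).2 g.2⟩
        left_inv := fun g => Subtype.ext (Subtype.ext rfl)
        right_inv := fun g => Subtype.ext rfl }
    rw [Nat.card_congr e, Nat.card_zpowers, hx]
  have h2 := φ.ker.card_mul_index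
  rw [Subgroup.index_ker, MonoidHom.range_eq_top.2 hφ, Subgroup.card_top, h1, Nat.card_eq_fintype_card,
    Fintype.card_perm, Fintype.card_fin] at h2
  rw [← h2]
  rfl

/-- the values of the column -/
def wl : List (ℕ × ℤ) := [(0, 0), (1, -10), (1, 1), (1, 12), (2, -20), (2, 2), (3, -30), (3, -8), (3, 3), (4, 4), (4, 15),
  (5, -6), (5, 5), (6, -5), (6, 6), (7, -15), (7, -4), (8, -3), (8, 8), (8, 30), (9, -2), (9, 20), (10, -12), (10, -1),
  (10, 10)]

open Cfsg.Agent.H34.TI Cfsg.Agent.H671.J4 in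
/-- the degrees of the irreducible characters of `S₅` (helper705) -/
theorem deg5 {φ : Equiv.Perm (Fin 5) → ℂ} (hφ : IsIrrCharacter (Equiv.Perm (Fin 5)) φ) :
    ∃ n : ℤ, (n = 1 ∨ n = 4 ∨ n = 5 ∨ n = 6) ∧ φ 1 = n := by
  obtain ⟨a, ha⟩ := irr5_bij.2 ⟨φ, hφ⟩
  refine ⟨Cfsg.Agent.H34.TI.t7 a, ?_, ?_⟩
  · clear ha
    revert a
    decide
  · have h1 : (irr5 a : Equiv.Perm (Fin 5) → ℂ) 1 = φ 1 :=
      congrArg (fun ψ : IrrCharacter (Equiv.Perm (Fin 5)) => (ψ : Equiv.Perm (Fin 5) → ℂ) 1) ha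
    rw [← h1]
    show ((th5 a 1 : ℤ) : ℂ) = _
    rw [th5_one]

theorem model (χ : IrrCharacter Spor.BabyMonster) : NumB.r11 (charDegree (χ : Spor.BabyMonster → ℂ)) = true := by
  have hs : IsSimpleGroup Spor.BabyMonster := KFacts.Baby.RowB.simple_B
  have hiso : Spor.IsoB Spor.BabyMonster := ⟨MulEquiv.refl _⟩
  have hN : Nat.card Spor.BabyMonster = Abs.NB := NotCT.Orders.b hiso
  have hfin : Finite Spor.BabyMonster := Nat.finite_of_card_ne_zero (by rw [hN]; norm_num)
  have hna : ¬ IsMulCommutative Spor.BabyMonster := by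
    intro hcomm
    have h5 : (Nat.card Spor.BabyMonster).Prime := by
      let _ : CommGroup Spor.BabyMonster := { (inferInstance : Group Spor.BabyMonster) with mul_comm := fun a b => hcomm.is_comm.comm a b }
      exact IsSimpleGroup.prime_card
    rw [hN] at h5
    norm_num at h5
  have hp : Fact (Nat.Prime 11) := ⟨by norm_num⟩
  obtain ⟨x, hx⟩ := exists_prime_orderOf_dvd_card' (G := Spor.BabyMonster) 11 (by rw [hN]; norm_num)
  obtain ⟨P, K, hK, hP, hPx, -, -, he, hKc⟩ := Abs.exists_blk hna hN hx (k := 120) (by rw [cent11 hx])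
    10 1 wl 0 false (by decide +kernel)
  -- `K = S₅`
  obtain ⟨φ, hφ, hk⟩ := H860.I4.exists_hom hx
  have hCx : centralizer ((P : Subgroup Spor.BabyMonster) : Set Spor.BabyMonster) = centralizer ({x} : Set Spor.BabyMonster) := by
    rw [hPx, SmallSimple.SelfCentPrime.centralizer_zpowers]
  have hKx : ∀ y : K, (y : Spor.BabyMonster) ∈ centralizer ({x} : Set Spor.BabyMonster) := by
    intro y
    rw [← hCx]
    exact hK.le y.2
  let f : K →* Equiv.Perm (Fin 5) :=
    φ.comp ((Subgroup.subtype K).codRestrict (centralizer ({x} : Set Spor.BabyMonster)) hKx)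
  have hf : Function.Injective f := by
    rw [injective_iff_map_eq_one]
    intro y hy
    have h1 : (y : Spor.BabyMonster) ∈ zpowers x := (hk _).1 hy
    rw [← hPx] at h1
    have h2 := hK.disjoint hP h1 y.2
    exact Subtype.ext h2
  have hb : Function.Bijective f := by
    rw [Nat.bijective_iff_injective_and_card]
    refine ⟨hf, ?_⟩
    rw [hKc, Nat.card_eq_fintype_card, Fintype.card_perm, Fintype.card_fin]
    rfl
  let e : K ≃* Equiv.Perm (Fin 5) := MulEquiv.ofBijective f hb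
  have hI : Cfsg.Agent.H676.Deg.Inn P K := by
    intro n hn
    obtain ⟨σ, hσ⟩ := H860.I4.SFive.inner ((e.symm.trans (cK hK hn)).trans e)
    refine ⟨(e.symm σ : K), (e.symm σ).2, fun y hy => ?_⟩
    have h1 := hσ (e ⟨y, hy⟩)
    have h2 : ((e.symm.trans (cK hK hn)).trans e) (e ⟨y, hy⟩) = e (cK hK hn ⟨y, hy⟩) := by
      show e (cK hK hn (e.symm (e ⟨y, hy⟩))) = _
      rw [e.symm_apply_apply]
    rw [h2] at h1
    have h3 : cK hK hn ⟨y, hy⟩ = e.symm σ * ⟨y, hy⟩ * (e.symm σ)⁻¹ := by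
      apply e.injective
      rw [h1, map_mul, map_mul, map_inv, e.apply_symm_apply]
    exact congrArg Subtype.val h3
  have hd := Blocks.Knorr.charDegree_eq χ.2
  rcases Cfsg.Agent.H676.Deg.val hK hP (by rw [he]) hI χ with ⟨-, k, hk⟩ | ⟨ψ, δ, hδ, -, k, hk⟩
  · rw [hd] at hk
    have h1 : charDegree (χ : Spor.BabyMonster → ℂ) = 11 * k := by exact_mod_cast hk
    unfold NumB.r11
    rw [Num.r3_spec (Or.inl (by rw [h1, Nat.mul_mod_right]))]
    rfl
  · obtain ⟨n, hn, hn1⟩ := deg5 (isIrr_comp e.symm.toMonoidHom e.symm.surjective ψ.2)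
    have e1 : ((ψ : K → ℂ) ∘ e.symm.toMonoidHom) 1 = (ψ : K → ℂ) 1 := by
      rw [Function.comp_apply, map_one]
    rw [e1] at hn1
    rw [hd, hn1] at hk
    have h1 : (charDegree (χ : Spor.BabyMonster → ℂ) : ℤ) = δ * n + 11 * k := by exact_mod_cast hk
    have h2 : (charDegree (χ : Spor.BabyMonster → ℂ) % 11 = 1 ∨ charDegree (χ : Spor.BabyMonster → ℂ) % 11 = 11 - 1) ∨
        (charDegree (χ : Spor.BabyMonster → ℂ) % 11 = 4 ∨ charDegree (χ : Spor.BabyMonster → ℂ) % 11 = 11 - 4) ∨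
        (charDegree (χ : Spor.BabyMonster → ℂ) % 11 = 5 ∨ charDegree (χ : Spor.BabyMonster → ℂ) % 11 = 11 - 5) := by
      rcases hδ with rfl | rfl <;> rcases hn with rfl | rfl | rfl | rfl <;> omega
    unfold NumB.r11
    rcases h2 with h2 | h2 | h2
    · rw [Num.r3_spec (Or.inr h2)]; rfl
    · rw [Num.r2_spec.1 h2]; simp
    · rw [Num.r2_spec.1 h2]; simp

/-- **The residues modulo 11.** -/
theorem r11 (χ : IrrCharacter Inst.M.G) : NumB.r11 (charDegree (χ : Inst.M.G → ℂ)) = true := by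
  have e : Inst.M.G ≃* Spor.BabyMonster := BM.KHAll.iso.symm
  have h1 : charDegree (χ : Inst.M.G → ℂ) = charDegree (fun g : Spor.BabyMonster => (χ : Inst.M.G → ℂ) (e.symm g)) := by
    unfold charDegree
    simp
  rw [h1]
  exact model ⟨_, isIrr_comp e.symm.toMonoidHom e.symm.surjective χ.2⟩

end Cfsg.Agent.H570.TC.Eleven
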