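import Cfsg.Agent.H570.TC.Abs
import Cfsg.Agent.H65.Ore.Prd

/-!
# S4173, row B: T1 at the pair (23, 23) (helper570)

* `fsum` : nonnegativity of the structure constants of two subgroups;
* `core` : `|C(g)| ≤ 960000000` gives `Prd x x⁻¹ g`.
-/

set_option autoImplicit false
set_option linter.unusedSectionVars false

open Cfsg Subgroup
open scoped ComplexConjugate

namespace Cfsg.Agent.H570.TC.Main

open Cfsg.Agent.Characters.Core Cfsg.Agent.H570.Ore.Num
open Cfsg.Agent.H653.Sieve Cfsg.Agent.H570.TC.Val Cfsg.Agent.H570.TC.Abs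
open Cfsg.Agent.H570.Ore.Abs (Dt NB exists_blk res real31)

universe u

variable {G : Type u} [Group G] [Finite G] [Fintype (IrrCharacter G)]

/-- the structure constants of two subgroups -/
theorem fsum (H H' : Subgroup G) (g : G) : ∃ r : ℝ, 0 ≤ r ∧
    ∑ χ : IrrCharacter G, csum H (χ : G → ℂ) * csum H' (χ : G → ℂ) * (conj ((χ : G → ℂ) g) / (χ : G → ℂ) 1) = r := by
  classical
  have := Fintype.ofFinite H
  have := Fintype.ofFinite H'
  have hG : (Nat.card G : ℂ) ≠ 0 := by exact_mod_cast Nat.card_pos.ne'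
  refine ⟨∑ a ∈ (Finset.univ : Finset H).erase 1, ∑ b ∈ (Finset.univ : Finset H').erase 1,
    (Nat.card {p : G × G // p.1 * (a : G) * p.1⁻¹ * (p.2 * (b : G) * p.2⁻¹) = g} : ℝ) / Nat.card G,
    Finset.sum_nonneg fun _ _ => Finset.sum_nonneg fun _ _ => by positivity, ?_⟩
  have h1 : ∀ χ : IrrCharacter G, csum H (χ : G → ℂ) * csum H' (χ : G → ℂ) * (conj ((χ : G → ℂ) g) / (χ : G → ℂ) 1) =
      ∑ a ∈ (Finset.univ : Finset H).erase 1, ∑ b ∈ (Finset.univ : Finset H').erase 1,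
        (χ : G → ℂ) a * (χ : G → ℂ) b * conj ((χ : G → ℂ) g) / (χ : G → ℂ) 1 := by
    intro χ
    rw [csum_eq_erase, csum_eq_erase, Finset.sum_mul_sum, Finset.sum_mul]
    refine Finset.sum_congr rfl fun a _ => ?_
    rw [Finset.sum_mul]
    exact Finset.sum_congr rfl fun b _ => by ring
  rw [Finset.sum_congr rfl fun χ _ => h1 χ, Finset.sum_comm]
  push_cast
  refine Finset.sum_congr rfl fun a _ => ?_
  rw [Finset.sum_comm]
  refine Finset.sum_congr rfl fun b _ => ?_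
  rw [Characters.ClassMul.card_conj_mul_conj (a : G) (b : G) g, mul_div_cancel_left₀ _ hG]

variable [IsSimpleGroup G] {Z x : G} {P : Sylow 23 G} {W U : IrrCharacter G → ℤ}

theorem core (D : Dt G Z) (H : Dat Z x P W U) (hN : Nat.card (normalizer ((P : Subgroup G) : Set G)) = 23 * 11 * 2)
    (hc : Nat.card (centralizer ({x} : Set G)) = 46)
    (hm6 : ∑ χ : IrrCharacter G, (if charDegree (χ : G → ℂ) = 91884 then (1 : ℤ) else 0) ≤ 6)
    (hdN : ∀ χ : IrrCharacter G, (χ : G → ℂ) ≠ 1 → charDegree (χ : G → ℂ) ≠ 4371 → charDegree (χ : G → ℂ) ≠ 91884 →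
      (r2 23 1 (charDegree (χ : G → ℂ)) = true → 1411833 ≤ charDegree (χ : G → ℂ)) ∧
      (r2 23 11 (charDegree (χ : G → ℂ)) = true → 2159274 ≤ charDegree (χ : G → ℂ)))
    {g : G} (hg : Nat.card (centralizer ({g} : Set G)) ≤ 960000000) : H65.Ore.Prd x x⁻¹ g := by
  classical
  have hF23 : Fact (Nat.Prime 23) := ⟨by norm_num⟩
  have hF17 : Fact (Nat.Prime 17) := ⟨by norm_num⟩
  obtain ⟨x17, hx17, hc17⟩ := D.x17
  obtain ⟨Q, V, hQ, -, hV, hVok⟩ := exists_col D.nonab D.card hx17 (k := 4) (by rw [hc17])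
    16 1 [(0, 0), (1, 1), (16, -1), (2, 2), (15, -2)] 0 false (by decide +kernel)
  have hwl : ∀ χ : IrrCharacter G, (charDegree (χ : G → ℂ) % 17, V χ) ∈ [(0, 0), (1, 1), (16, -1), (2, 2), (15, -2)] :=
    fun χ => hVok.1 χ
  have hsq := H.sq hN
  have hex := H.ex hN hc
  by_contra hno
  -- the ratio
  set R : IrrCharacter G → ℝ := fun χ => (conj ((χ : G → ℂ) g) / (χ : G → ℂ) 1).re with hR
  have hdpos : ∀ χ : IrrCharacter G, (0 : ℝ) < charDegree (χ : G → ℂ) := fun χ => by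
    exact_mod_cast H686.CharKit.charDegree_pos χ
  have hdeg : ∀ χ : IrrCharacter G, (χ : G → ℂ) 1 = (charDegree (χ : G → ℂ) : ℂ) := fun χ => Blocks.Knorr.charDegree_eq χ.2
  -- S1
  have hS1 : ∑ χ : IrrCharacter G, ‖(χ : G → ℂ) x‖ ^ 2 * R χ = 0 := by
    have h1 : ∑ χ : IrrCharacter G, (χ : G → ℂ) x * (χ : G → ℂ) x⁻¹ * conj ((χ : G → ℂ) g) / (χ : G → ℂ) 1 = 0 := by
      by_contra h
      exact hno (H65.Ore.prd_of_ne_zero h)
    have h2 : ∀ χ : IrrCharacter G, (χ : G → ℂ) x * (χ : G → ℂ) x⁻¹ * conj ((χ : G → ℂ) g) / (χ : G → ℂ) 1 =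
        ((‖(χ : G → ℂ) x‖ ^ 2 : ℝ) : ℂ) * (conj ((χ : G → ℂ) g) / (χ : G → ℂ) 1) := by
      intro χ
      rw [isCharacter_apply_inv (isIrr_isCharacter χ.2), Complex.mul_conj']
      push_cast
      ring
    have h3 := congrArg Complex.re h1
    rw [Finset.sum_congr rfl fun χ _ => h2 χ, Complex.re_sum, Complex.zero_re] at h3
    rw [← h3]
    exact Finset.sum_congr rfl fun χ _ => (Complex.re_ofReal_mul _ _).symm
  -- S2
  have hS2 : 0 ≤ ∑ χ : IrrCharacter G, ((W χ * V χ : ℤ) : ℝ) * R χ := by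
    obtain ⟨r, hr0, hr⟩ := fsum (P : Subgroup G) (Q : Subgroup G) g
    have h2 : ∀ χ : IrrCharacter G, csum (P : Subgroup G) (χ : G → ℂ) * csum (Q : Subgroup G) (χ : G → ℂ) *
        (conj ((χ : G → ℂ) g) / (χ : G → ℂ) 1) =
        ((176 * ((W χ * V χ : ℤ) : ℝ) : ℝ) : ℂ) * (conj ((χ : G → ℂ) g) / (χ : G → ℂ) 1) := by
      intro χ
      rw [← H.col χ, ← hV χ]
      push_cast
      ring
    have h3 := congrArg Complex.re hr
    rw [Finset.sum_congr rfl fun χ _ => h2 χ, Complex.re_sum, Complex.ofReal_re] at h3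
    have h4 : ∑ χ : IrrCharacter G, (((176 * ((W χ * V χ : ℤ) : ℝ) : ℝ) : ℂ) * (conj ((χ : G → ℂ) g) / (χ : G → ℂ) 1)).re =
        176 * ∑ χ : IrrCharacter G, ((W χ * V χ : ℤ) : ℝ) * R χ := by
      rw [Finset.mul_sum]
      refine Finset.sum_congr rfl fun χ _ => ?_
      rw [Complex.re_ofReal_mul]
      ring
    rw [h4] at h3
    linarith
  -- the coefficient
  set c : IrrCharacter G → ℝ := fun χ => ((W χ * V χ : ℤ) : ℝ) - 4 * ‖(χ : G → ℂ) x‖ ^ 2 with hcdef
  have hS : 0 ≤ ∑ χ : IrrCharacter G, c χ * R χ := by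
    have h1 : ∑ χ : IrrCharacter G, c χ * R χ = ∑ χ : IrrCharacter G, ((W χ * V χ : ℤ) : ℝ) * R χ -
        4 * ∑ χ : IrrCharacter G, ‖(χ : G → ℂ) x‖ ^ 2 * R χ := by
      rw [Finset.mul_sum, ← Finset.sum_sub_distrib]
      exact Finset.sum_congr rfl fun χ _ => by rw [hcdef]; ring
    rw [h1, hS1]
    linarith
  -- the trivial character
  have hone : c (H65.Ore.one1 G) * R (H65.Ore.one1 G) = -2 := by
    have h1 : W (H65.Ore.one1 G) = 2 := by
      have := H.col.one (t := 2) (by norm_num) (by rw [show Nat.card (P : Subgroup G) = 23 from H.card]) (χ := H65.Ore.one1 G) rfl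
      exact_mod_cast this
    have h2 : V (H65.Ore.one1 G) = 1 := by
      have := hV.one (t := 1) (by norm_num) (by rw [show Nat.card (Q : Subgroup G) = 17 from hQ]) (χ := H65.Ore.one1 G) rfl
      exact_mod_cast this
    have h3 : R (H65.Ore.one1 G) = 1 := by
      rw [hR]
      simp [H65.Ore.one1_apply]
    rw [h3, hcdef]
    simp only [h1, h2, H65.Ore.one1_apply]
    norm_num
  rw [← Finset.add_sum_erase Finset.univ _ (Finset.mem_univ (H65.Ore.one1 G)), hone] at hS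
  -- Cauchy-Schwarz
  have hCS := Finset.sum_mul_sq_le_sq_mul_sq (Finset.univ.erase (H65.Ore.one1 G))
    (fun χ : IrrCharacter G => |c χ| / charDegree (χ : G → ℂ)) (fun χ : IrrCharacter G => ‖(χ : G → ℂ) g‖)
  rw [H65.Ore.sum_erase_sq] at hCS
  have hle : ∑ χ ∈ Finset.univ.erase (H65.Ore.one1 G), c χ * R χ ≤
      ∑ χ ∈ Finset.univ.erase (H65.Ore.one1 G), |c χ| / charDegree (χ : G → ℂ) * ‖(χ : G → ℂ) g‖ := by
    refine Finset.sum_le_sum fun χ _ => ?_
    have h1 : |R χ| ≤ ‖(χ : G → ℂ) g‖ / charDegree (χ : G → ℂ) := by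
      refine (Complex.abs_re_le_norm _).trans ?_
      rw [norm_div, Complex.norm_conj, hdeg, Complex.norm_natCast]
    calc c χ * R χ ≤ |c χ * R χ| := le_abs_self _
      _ = |c χ| * |R χ| := abs_mul _ _
      _ ≤ |c χ| * (‖(χ : G → ℂ) g‖ / charDegree (χ : G → ℂ)) := mul_le_mul_of_nonneg_left h1 (abs_nonneg _)
      _ = |c χ| / charDegree (χ : G → ℂ) * ‖(χ : G → ℂ) g‖ := by ring
  -- the energy
  have hen : ∀ χ ∈ Finset.univ.erase (H65.Ore.one1 G), (|c χ| / charDegree (χ : G → ℂ)) ^ 2 ≤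
      4 / 91884 ^ 2 * ((if charDegree (χ : G → ℂ) = 91884 then (1 : ℤ) else 0 : ℤ) : ℝ) +
        16 / 1411833 ^ 2 * ((W χ * W χ : ℤ) : ℝ) + 676 / 2159274 ^ 2 * ((ex (W χ) : ℤ) : ℝ) := by
    intro χ hχ
    have hχ1 : (χ : G → ℂ) ≠ 1 := H65.Ore.coe_ne_one (Finset.ne_of_mem_erase hχ)
    have hex0 : (0 : ℝ) ≤ ((ex (W χ) : ℤ) : ℝ) := by
      unfold ex; split_ifs <;> norm_num
    have hW0 : (0 : ℝ) ≤ ((W χ * W χ : ℤ) : ℝ) := by exact_mod_cast mul_self_nonneg (W χ)
    have hdv := H.dvd χ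
    have h1 := hwl χ
    simp only [List.mem_cons, Prod.mk.injEq, List.not_mem_nil, or_false] at h1
    have hd0 := hdpos χ
    rw [div_pow, sq_abs, div_le_iff₀ (by positivity)]
    by_cases h4371 : charDegree (χ : G → ℂ) = 4371
    · -- the coefficient vanishes
      have hW : W χ = 2 := by
        rw [h4371] at hdv
        rcases H.val χ with ⟨-, h'⟩ | ⟨-, h' | h'⟩ | ⟨-, h' | h'⟩ <;> rw [h'] at hdv <;>
          first | exact h' | (exfalso; revert hdv; norm_num)
      have hV2 : V χ = 2 := by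
        rw [h4371] at h1
        rcases h1 with h1 | h1 | h1 | h1 | h1
        · exact absurd h1.1 (by norm_num)
        · exact absurd h1.1 (by norm_num)
        · exact absurd h1.1 (by norm_num)
        · exact h1.2
        · exact absurd h1.1 (by norm_num)
      have hx : ‖(χ : G → ℂ) x‖ ^ 2 = 1 := by
        rcases H.val χ with ⟨-, h'⟩ | ⟨h, -⟩ | ⟨-, h' | h'⟩
        · rw [hW] at h'; norm_num at h'
        · exact h
        · rw [hW] at h'; norm_num at h'
        · rw [hW] at h'; norm_num at h'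
      have hc0 : c χ = 0 := by
        rw [hcdef]
        simp only [hW, hV2, hx]
        norm_num
      rw [hc0, if_neg (by rw [h4371]; norm_num), zero_pow two_ne_zero]
      have e0 : (0 : ℝ) ≤ ((0 : ℤ) : ℝ) := by norm_num
      positivity
    by_cases h91884 : charDegree (χ : G → ℂ) = 91884
    · have hW : W χ = -2 := by
        rw [h91884] at hdv
        rcases H.val χ with ⟨-, h'⟩ | ⟨-, h' | h'⟩ | ⟨-, h' | h'⟩ <;> rw [h'] at hdv <;>
          first | exact h' | (exfalso; revert hdv; norm_num)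
      have hV2 : V χ = -1 := by
        rw [h91884] at h1
        rcases h1 with h1 | h1 | h1 | h1 | h1
        · exact absurd h1.1 (by norm_num)
        · exact absurd h1.1 (by norm_num)
        · exact h1.2
        · exact absurd h1.1 (by norm_num)
        · exact absurd h1.1 (by norm_num)
      have hx : ‖(χ : G → ℂ) x‖ ^ 2 = 1 := by
        rcases H.val χ with ⟨-, h'⟩ | ⟨h, -⟩ | ⟨-, h' | h'⟩
        · rw [hW] at h'; norm_num at h'
        · exact h
        · rw [hW] at h'; norm_num at h'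
        · rw [hW] at h'; norm_num at h'
      have hc0 : c χ = -2 := by
        rw [hcdef]
        simp only [hW, hV2, hx]
        norm_num
      rw [hc0, h91884, if_pos rfl]
      have h5 : (0 : ℝ) ≤ 16 / 1411833 ^ 2 * ((W χ * W χ : ℤ) : ℝ) + 676 / 2159274 ^ 2 * ((ex (W χ) : ℤ) : ℝ) := by positivity
      push_cast at h5 ⊢
      nlinarith
    obtain ⟨hN1, hX1⟩ := hdN χ hχ1 h4371 h91884
    rw [if_neg h91884]
    have hV2 : (V χ : ℝ) ≤ 2 ∧ -2 ≤ (V χ : ℝ) := by
      rcases h1 with h1 | h1 | h1 | h1 | h1 <;> rw [h1.2] <;> norm_num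
    rcases H.val χ with ⟨h, h'⟩ | ⟨h, h'⟩ | ⟨h, h'⟩
    · have hc0 : c χ = 0 := by
        rw [hcdef]
        simp only [h, h']
        norm_num
      rw [hc0, zero_pow two_ne_zero]
      have e0 : (0 : ℝ) ≤ ((0 : ℤ) : ℝ) := by norm_num
      positivity
    · -- non-exceptional
      have hd : (1411833 : ℝ) ≤ charDegree (χ : G → ℂ) := by
        have h6 : 1411833 ≤ charDegree (χ : G → ℂ) := by
          refine hN1 (r2_spec.1 ?_)
          rcases h' with h' | h' <;> rw [h'] at hdv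
          · left; omega
          · right; omega
        exact_mod_cast h6
      have hcb : (c χ) ^ 2 ≤ 64 := by
        rw [hcdef]
        simp only [h]
        rcases h' with h' | h' <;> rw [h'] <;> push_cast <;> nlinarith [hV2.1, hV2.2]
      have hWW : ((W χ * W χ : ℤ) : ℝ) = 4 := by
        rcases h' with h' | h' <;> rw [h'] <;> norm_num
      have hx0 : ((ex (W χ) : ℤ) : ℝ) = 0 := by
        unfold ex
        rcases h' with h' | h' <;> rw [h'] <;> norm_num
      rw [hWW, hx0]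
      have h7 : (1411833 : ℝ) ^ 2 ≤ (charDegree (χ : G → ℂ) : ℝ) ^ 2 := pow_le_pow_left₀ (by norm_num) hd 2
      push_cast
      nlinarith
    · -- exceptional
      have hd : (2159274 : ℝ) ≤ charDegree (χ : G → ℂ) := by
        have h6 : 2159274 ≤ charDegree (χ : G → ℂ) := by
          refine hX1 (r2_spec.1 ?_)
          rcases h' with h' | h' <;> rw [h'] at hdv
          · right; omega
          · left; omega
        exact_mod_cast h6
      have hcb : (c χ) ^ 2 ≤ 676 := by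
        rw [hcdef]
        simp only [h]
        rcases h' with h' | h' <;> rw [h'] <;> push_cast <;> nlinarith [hV2.1, hV2.2]
      have hx0 : ((ex (W χ) : ℤ) : ℝ) = 1 := by
        unfold ex
        rcases h' with h' | h' <;> rw [h'] <;> norm_num
      rw [hx0]
      have h7 : (2159274 : ℝ) ^ 2 ≤ (charDegree (χ : G → ℂ) : ℝ) ^ 2 := pow_le_pow_left₀ (by norm_num) hd 2
      have h8 : (0 : ℝ) ≤ 16 / 1411833 ^ 2 * ((W χ * W χ : ℤ) : ℝ) * (charDegree (χ : G → ℂ) : ℝ) ^ 2 := by positivity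
      have h9 : 676 ≤ 676 / 2159274 ^ 2 * (1 : ℝ) * (charDegree (χ : G → ℂ) : ℝ) ^ 2 := by
        have : (676 : ℝ) = 676 / 2159274 ^ 2 * 1 * 2159274 ^ 2 := by norm_num
        calc (676 : ℝ) = 676 / 2159274 ^ 2 * 1 * 2159274 ^ 2 := this
          _ ≤ _ := mul_le_mul_of_nonneg_left h7 (by norm_num)
      push_cast at h8 ⊢
      nlinarith
  have hE := Finset.sum_le_sum hen
  have hE2 : ∑ χ ∈ Finset.univ.erase (H65.Ore.one1 G), (4 / 91884 ^ 2 *
      ((if charDegree (χ : G → ℂ) = 91884 then (1 : ℤ) else 0 : ℤ) : ℝ) +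
        16 / 1411833 ^ 2 * ((W χ * W χ : ℤ) : ℝ) + 676 / 2159274 ^ 2 * ((ex (W χ) : ℤ) : ℝ)) ≤
      24 / 91884 ^ 2 + 1472 / 1411833 ^ 2 + 2704 / 2159274 ^ 2 := by
    have h1 : ∑ χ ∈ Finset.univ.erase (H65.Ore.one1 G), (4 / 91884 ^ 2 *
        ((if charDegree (χ : G → ℂ) = 91884 then (1 : ℤ) else 0 : ℤ) : ℝ) +
          16 / 1411833 ^ 2 * ((W χ * W χ : ℤ) : ℝ) + 676 / 2159274 ^ 2 * ((ex (W χ) : ℤ) : ℝ)) ≤
        ∑ χ : IrrCharacter G, (4 / 91884 ^ 2 *
        ((if charDegree (χ : G → ℂ) = 91884 then (1 : ℤ) else 0 : ℤ) : ℝ) +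
          16 / 1411833 ^ 2 * ((W χ * W χ : ℤ) : ℝ) + 676 / 2159274 ^ 2 * ((ex (W χ) : ℤ) : ℝ)) := by
      refine Finset.sum_le_sum_of_subset_of_nonneg (Finset.erase_subset _ _) fun χ _ _ => ?_
      have e1 : (0 : ℝ) ≤ ((if charDegree (χ : G → ℂ) = 91884 then (1 : ℤ) else 0 : ℤ) : ℝ) := by
        split_ifs <;> norm_num
      have e2 : (0 : ℝ) ≤ ((ex (W χ) : ℤ) : ℝ) := by
        unfold ex; split_ifs <;> norm_num
      have e3 : (0 : ℝ) ≤ ((W χ * W χ : ℤ) : ℝ) := by exact_mod_cast mul_self_nonneg (W χ)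
      positivity
    refine h1.trans ?_
    rw [Finset.sum_add_distrib, Finset.sum_add_distrib, ← Finset.mul_sum, ← Finset.mul_sum, ← Finset.mul_sum,
      ← Int.cast_sum, ← Int.cast_sum, ← Int.cast_sum, hsq, hex]
    have h6 : ((∑ χ : IrrCharacter G, (if charDegree (χ : G → ℂ) = 91884 then (1 : ℤ) else 0) : ℤ) : ℝ) ≤ 6 := by
      exact_mod_cast hm6
    push_cast at h6 ⊢
    nlinarith
  have hgR : (Nat.card (centralizer ({g} : Set G)) : ℝ) - 1 ≤ 960000000 := by
    have : (Nat.card (centralizer ({g} : Set G)) : ℝ) ≤ 960000000 := by exact_mod_cast hg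
    linarith
  have hg0 : (0 : ℝ) ≤ (Nat.card (centralizer ({g} : Set G)) : ℝ) - 1 := by
    have : 1 ≤ Nat.card (centralizer ({g} : Set G)) := Nat.card_pos
    have : (1 : ℝ) ≤ (Nat.card (centralizer ({g} : Set G)) : ℝ) := by exact_mod_cast this
    linarith
  have hE3 := hE.trans hE2
  have h4 : (4 : ℝ) ≤ (∑ χ ∈ Finset.univ.erase (H65.Ore.one1 G), |c χ| / charDegree (χ : G → ℂ) * ‖(χ : G → ℂ) g‖) ^ 2 := by
    have h5 : (2 : ℝ) ≤ ∑ χ ∈ Finset.univ.erase (H65.Ore.one1 G), |c χ| / charDegree (χ : G → ℂ) * ‖(χ : G → ℂ) g‖ := by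
      linarith
    have h6 := pow_le_pow_left₀ (by norm_num) h5 2
    linarith
  have h5 := h4.trans hCS
  have h6 : (∑ χ ∈ Finset.univ.erase (H65.Ore.one1 G), (|c χ| / charDegree (χ : G → ℂ)) ^ 2) *
      ((Nat.card (centralizer ({g} : Set G)) : ℝ) - 1) ≤
      (24 / 91884 ^ 2 + 1472 / 1411833 ^ 2 + 2704 / 2159274 ^ 2) * 960000000 :=
    mul_le_mul hE3 hgR hg0 (by norm_num)
  have h7 := h5.trans h6
  norm_num at h7

end Cfsg.Agent.H570.TC.Main
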