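import Cfsg.Agent.H570.TC.Main
import Cfsg.Agent.H570.TC.Deg
import Cfsg.Agent.H570.TC.Eleven

/-!
# S4173, row B: T1 at the pair (23, 23) for the Baby Monster (helper570)

`prd23` : `|C(g)| ≤ 960000000` and `x` of order 23 give `g = (a x a⁻¹) (b x⁻¹ b⁻¹)`. `SThree.{0}` is the theorem of Feit and
Thompson, `fun _ _ _ X hX hC => S3331.result X hX hC`.
-/

set_option autoImplicit false

namespace Cfsg.Agent.H570.TC.RowB

open Cfsg Subgroup
open Cfsg.Agent.BabyM Cfsg.Agent.BabyU.ClosModel Cfsg.Agent.BabyU.ClosLane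
open Cfsg.Agent.H715.Mon.Grp (SThree)
open Cfsg.Agent.H570.Ore.RowB (fin simple dt)
open Cfsg.Agent.H65.Ore (Prd)

universe u

theorem isConj_inv {G : Type*} [Group G] {a b : G} (h : IsConj a b) : IsConj a⁻¹ b⁻¹ := by
  obtain ⟨c, rfl⟩ := isConj_iff.1 h
  exact isConj_iff.2 ⟨c, by group⟩

theorem prd_model (h3 : SThree.{0}) {x : Inst.M.G} (hx : orderOf x = 23) {g : Inst.M.G}
    (hg : Nat.card (centralizer ({g} : Set Inst.M.G)) ≤ 960000000) : Prd x x⁻¹ g := by
  have := simple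
  have D := dt h3
  obtain ⟨x0, hx0, hx0Z, hc0⟩ := D.x23
  obtain ⟨P, W, U, H, hN⟩ := Abs.exists_dat D hx0 hx0Z hc0
  have : Finite (IrrCharacter Inst.M.G) := Characters.Core.finite_irr
  have := Fintype.ofFinite (IrrCharacter Inst.M.G)
  have hm := Abs.mult D H hN hc0 (fun χ hχ m hm => by
    have h1 := Deg.m23 D χ m (by rw [hm, hχ]; push_cast; ring)
    rw [hχ] at h1
    exact h1)
  have h0 : Prd x0 x0⁻¹ g := Main.core D H hN hc0 hm
    (fun χ h1 h2 h4 => Deg.degs D Eleven.r11 χ h1 h2 h4) hg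
  rcases Abs.classes D hx0 hc0 hx with h1 | h1
  · exact (h0.congr_left h1).congr_right (isConj_inv h1)
  · have h2 := isConj_inv h1
    rw [inv_inv] at h2
    exact (h0.swap.congr_left h1).congr_right h2

/-- **T1 at (23, 23) for the Baby Monster.** -/
theorem prd23 (h3 : SThree.{0}) {S : Type u} [Group S] (h : Spor.IsoB S) {x : S} (hx : orderOf x = 23) {g : S}
    (hg : Nat.card (centralizer ({g} : Set S)) ≤ 960000000) : Prd x x⁻¹ g := by
  obtain ⟨e'⟩ := KFacts.Baby.RowB.exists_iso h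
  let e : S ≃* Inst.M.G := e'.symm
  have h1 : Prd (e x) (e x)⁻¹ (e g) := by
    refine prd_model h3 (by rw [MulEquiv.orderOf_eq, hx]) ?_
    have h2 : Nat.card (centralizer ({e g} : Set Inst.M.G)) = Nat.card (centralizer ({g} : Set S)) := by
      refine Nat.card_congr (e.toEquiv.subtypeEquiv fun a => ?_).symm
      rw [mem_centralizer_singleton_iff, mem_centralizer_singleton_iff]
      show a * g = g * a ↔ e a * e g = e g * e a
      rw [← map_mul, ← map_mul, e.apply_eq_iff_eq]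
    rw [h2]
    exact hg
  obtain ⟨a, b, hab⟩ := h1
  refine ⟨e.symm a, e.symm b, ?_⟩
  apply e.injective
  rw [hab]
  simp

end Cfsg.Agent.H570.TC.RowB
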