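import Cfsg.Agent.H570.Ore.Blk
import Cfsg.Agent.H653.Sieve.Col

/-!
# S4173, row B: the values at the prime 23 (helper570)

`P` of order `p`, `C(P) = P × K`, `K = ⟨Z⟩` of order two, all elements of order `p` conjugate to `x` or `x⁻¹`.

* `val` : `(‖χ x‖², W χ)` is `(0, 0)`, `(1, ± t)` or `((p - e) / t, ± 1)`;
* `zval` : the sum over `y Z` is `± ` the sum over `y`;
* `zdvd` : `p ∣ χ(Z) + e U`;
* `orth_fam` : column orthogonality for families.
-/

set_option autoImplicit false
set_option linter.unusedSectionVars false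

open Cfsg Subgroup
open scoped ComplexConjugate

namespace Cfsg.Agent.H570.TC.Val

open Cfsg.Agent.Characters.Core
open Cfsg.Agent.SmallSimple.ThetaSetup Cfsg.Agent.SmallSimple.ThetaOrtho
open Cfsg.Agent.H653.Sieve Cfsg.Agent.H570.Ore.Blk

universe u

/-- Parseval for a set of linear characters -/
theorem sum_sq_hom {P : Type u} [Group P] [Fintype P] (S : Finset (P →* ℂˣ)) :
    ∑ y : P, ‖∑ l ∈ S, ((l y : ℂˣ) : ℂ)‖ ^ 2 = (Fintype.card P : ℝ) * S.card := by
  classical
  have hconj : ∀ (l : P →* ℂˣ) (y : P), conj ((l y : ℂˣ) : ℂ) = (((l⁻¹ : P →* ℂˣ) y : ℂˣ) : ℂ) := by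
    intro l x
    have h1 : ((l x : ℂˣ) : ℂ) ^ Nat.card P = 1 := by
      rw [← Units.val_pow_eq_pow_val, ← map_pow, pow_card_eq_one', map_one, Units.val_one]
    have h2 : ‖((l x : ℂˣ) : ℂ)‖ = 1 := Complex.norm_eq_one_of_pow_eq_one h1 Nat.card_pos.ne'
    rw [MonoidHom.inv_apply, Units.val_inv_eq_inv_val, Complex.inv_def, Complex.normSq_eq_norm_sq, h2]
    simp
  have h0 : ((∑ y : P, ‖∑ l ∈ S, ((l y : ℂˣ) : ℂ)‖ ^ 2 : ℝ) : ℂ) = (((Fintype.card P : ℝ) * S.card : ℝ) : ℂ) := by
    push_cast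
    have h1 : ∀ y : P, ((‖∑ l ∈ S, ((l y : ℂˣ) : ℂ)‖ : ℂ)) ^ 2 =
        ∑ l ∈ S, ∑ l' ∈ S, (((Units.coeHom ℂ).comp (l * l'⁻¹)) y : ℂ) := by
      intro y
      rw [← Complex.mul_conj', map_sum, Finset.sum_mul_sum]
      refine Finset.sum_congr rfl fun l _ => Finset.sum_congr rfl fun l' _ => ?_
      rw [hconj]
      simp
    rw [Finset.sum_congr rfl fun y _ => h1 y, Finset.sum_comm]
    have h2 : ∀ l ∈ S, ∑ y : P, ∑ l' ∈ S, (((Units.coeHom ℂ).comp (l * l'⁻¹)) y : ℂ) = (Fintype.card P : ℂ) := by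
      intro l hl
      rw [Finset.sum_comm, Finset.sum_eq_single_of_mem l hl]
      · simp
      · intro l' _ hne
        have h3 : (Units.coeHom ℂ).comp (l * l'⁻¹) ≠ 1 := by
          intro h4
          apply hne
          have h5 : l * l'⁻¹ = 1 := by
            ext y
            exact DFunLike.congr_fun h4 y
          exact (mul_inv_eq_one.1 h5).symm
        exact sum_hom_units_eq_zero _ h3
    rw [Finset.sum_congr rfl h2, Finset.sum_const, nsmul_eq_mul, mul_comm]
  exact_mod_cast h0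

section Fam

variable {G : Type u} [Group G] [Finite G] [Fintype (IrrCharacter G)]

/-- column orthogonality for families -/
theorem orth_fam {ι κ : Type*} [Fintype ι] [Fintype κ] {f : ι → G} {g : κ → G} (h : ∀ i j, ¬ IsConj (f i) (g j)) :
    ∑ χ : IrrCharacter G, (∑ i, (χ : G → ℂ) (f i)) * conj (∑ j, (χ : G → ℂ) (g j)) = 0 := by
  classical
  have := Fintype.ofFinite G
  have h1 : ∀ χ : IrrCharacter G, (∑ i, (χ : G → ℂ) (f i)) * conj (∑ j, (χ : G → ℂ) (g j)) =
      ∑ i, ∑ j, (χ : G → ℂ) (f i) * conj ((χ : G → ℂ) (g j)) := by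
    intro χ
    rw [map_sum, Finset.sum_mul_sum]
  rw [Finset.sum_congr rfl fun χ _ => h1 χ, Finset.sum_comm, Finset.sum_eq_zero]
  intro i _
  rw [Finset.sum_comm, Finset.sum_eq_zero]
  intro j _
  rw [S0145.sum_irr_mul_conj, if_neg (h i j)]

end Fam

variable {G : Type u} [Group G] [Finite G] {p : ℕ} [hp : Fact p.Prime] {P : Sylow p G} {K : Subgroup G}

/-- the sum over the nontrivial elements of `P`, times `z` -/
noncomputable def zsum (P : Subgroup G) (z : G) (χ : G → ℂ) : ℂ :=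
  haveI := Fintype.ofFinite {y : P // y ≠ 1}
  ∑ y : {y : P // y ≠ 1}, χ ((y : P) * z)

theorem zsum_eq (P : Subgroup G) [Fintype {y : P // y ≠ 1}] (z : G) (χ : G → ℂ) :
    zsum P z χ = ∑ y : {y : P // y ≠ 1}, χ ((y : P) * z) := by
  unfold zsum
  exact Finset.sum_congr (by ext; simp) fun _ _ => rfl

theorem split (P : Subgroup G) [Fintype P] [Fintype {y : P // y ≠ 1}] {M : Type*} [AddCommMonoid M] (F : P → M) :
    ∑ y : P, F y = F 1 + ∑ y : {y : P // y ≠ 1}, F y := by
  classical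
  rw [← Finset.add_sum_erase Finset.univ _ (Finset.mem_univ (1 : P))]
  congr 1
  exact Finset.sum_subtype _ (by simp) F

theorem csum_eq_zsum (P : Subgroup G) (χ : G → ℂ) : csum P χ = zsum P 1 χ := by
  classical
  have := Fintype.ofFinite P
  rw [csum_eq, zsum_eq, split P (fun y => χ (y : G))]
  simp

theorem card_ne_one (P : Subgroup G) (hP : Nat.card P = p) [Fintype {y : P // y ≠ 1}] :
    Fintype.card {y : P // y ≠ 1} = p - 1 := by
  classical
  have : Fintype P := Fintype.ofFinite _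
  have h1 : Fintype.card {y : P // y ≠ 1} = Fintype.card P - 1 := by
    rw [Fintype.card_subtype_compl]
    simp
  rw [h1, ← Nat.card_eq_fintype_card, hP]

/-- **The values.** -/
theorem val (hK : IsComp p (P : Subgroup G) K) (hP : Nat.card P = p) (hK2 : Nat.card K ≤ 2) {e t : ℕ}
    (he : (centralizer ((P : Subgroup G) : Set G)).relIndex (normalizer ((P : Subgroup G) : Set G)) = e)
    (ht : e * t = p - 1) {x : G} (hx : orderOf x = p) (hPx : (P : Subgroup G) = zpowers x)
    (hcl : ∀ a : G, orderOf a = p → IsConj x a ∨ IsConj x⁻¹ a)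
    (χ : IrrCharacter G) {w : ℤ} (hw : (e : ℂ) * w = csum (P : Subgroup G) (χ : G → ℂ)) :
    (‖(χ : G → ℂ) x‖ ^ 2 = 0 ∧ w = 0) ∨ (‖(χ : G → ℂ) x‖ ^ 2 = 1 ∧ (w = t ∨ w = -t)) ∨
      ((t : ℝ) * ‖(χ : G → ℂ) x‖ ^ 2 = (p : ℝ) - e ∧ (w = 1 ∨ w = -1)) := by
  classical
  have : Fintype (P : Subgroup G) := Fintype.ofFinite _
  have hp1 := hp.out.one_lt
  have he0 : (e : ℂ) ≠ 0 := by
    intro h
    have h' : e = 0 := by exact_mod_cast h
    rw [h', zero_mul] at ht
    omega
  have hcard := card_ne_one (P : Subgroup G) hP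
  rw [csum_eq_zsum, zsum_eq] at hw
  have hxP : x ∈ (P : Subgroup G) := by rw [hPx]; exact mem_zpowers x
  have hx1 : (⟨x, hxP⟩ : (P : Subgroup G)) ≠ 1 := by
    intro h
    have : x = 1 := congrArg Subtype.val h
    rw [this, orderOf_one] at hx
    omega
  have hord : ∀ y : (P : Subgroup G), y ≠ 1 → orderOf (y : G) = p := fun y hy =>
    Blocks.CyclicOrtho.orderOf_eq P hP y.2 fun h => hy (Subtype.ext h)
  rcases cases hK hP hK2 he ht χ with h | ⟨θ, -, ⟨ε, hε, h⟩ | ⟨d, hd, S, hS, hS1, h⟩⟩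
  · left
    have h1 : (χ : G → ℂ) x = 0 := h x (by rw [hx])
    refine ⟨by rw [h1]; simp, ?_⟩
    rw [Finset.sum_eq_zero] at hw
    · rcases mul_eq_zero.1 hw with h2 | h2
      · exact absurd h2 he0
      · exact_mod_cast h2
    · intro y _
      rw [mul_one]
      exact h _ (by rw [hord y y.2])
  · right; left
    have h1 : (χ : G → ℂ) x = ε := h ⟨x, hxP⟩ hx1
    refine ⟨by rw [h1]; rcases hε with rfl | rfl <;> simp, ?_⟩
    rw [Finset.sum_congr rfl (g := fun _ => (ε : ℂ)) fun y _ => by rw [mul_one]; exact h y y.2, Finset.sum_const,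
      Finset.card_univ, hcard, ← ht, nsmul_eq_mul] at hw
    have h2 : (w : ℂ) = ((t * ε : ℤ) : ℂ) := by
      push_cast at hw ⊢
      have : (e : ℂ) * w = e * (t * ε) := by rw [hw]; ring
      exact mul_left_cancel₀ he0 this
    have h3 : w = t * ε := by exact_mod_cast h2
    rcases hε with rfl | rfl
    · left; rw [h3, mul_one]
    · right; rw [h3]; ring
  · right; right
    have hsum := SmallSimple.TheoremBCor.sum_exc_off (Q := (P : Subgroup G)) (f := fun y => (χ : G → ℂ) y)
      (d := d) hS1 h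
    have hsq : ∀ y : (P : Subgroup G), y ≠ 1 → ‖(χ : G → ℂ) (y : G)‖ ^ 2 = ‖(χ : G → ℂ) x‖ ^ 2 := by
      intro y hy
      rcases hcl y (hord y hy) with h1 | h1
      · obtain ⟨c, hc⟩ := isConj_iff.1 h1
        rw [← hc, isIrr_isClassFunction χ.2 x c]
      · obtain ⟨c, hc⟩ := isConj_iff.1 h1
        rw [← hc, isIrr_isClassFunction χ.2 x⁻¹ c, isCharacter_apply_inv (isIrr_isCharacter χ.2), Complex.norm_conj]
    constructor
    · have h1 := sum_sq_hom S
      rw [split (P : Subgroup G) (fun y => ‖∑ l ∈ S, ((l y : ℂˣ) : ℂ)‖ ^ 2)] at h1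
      have h2 : ∀ y : {y : (P : Subgroup G) // y ≠ 1}, ‖∑ l ∈ S, ((l (y : (P : Subgroup G)) : ℂˣ) : ℂ)‖ ^ 2 = ‖(χ : G → ℂ) x‖ ^ 2 := by
        intro y
        rw [← hsq y y.2, h y y.2, norm_mul]
        rcases hd with rfl | rfl <;> simp
      rw [Finset.sum_congr rfl fun y _ => h2 y, Finset.sum_const, Finset.card_univ, hcard, ← Nat.card_eq_fintype_card,
        hS] at h1
      have h3 : (Nat.card (P : Subgroup G) : ℝ) = p := by exact_mod_cast hP
      rw [h3, ← ht, nsmul_eq_mul] at h1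
      simp only [map_one, Units.val_one, Finset.sum_const, hS, nsmul_eq_mul, mul_one, Complex.norm_natCast] at h1
      push_cast at h1
      have he0' : (e : ℝ) ≠ 0 := by exact_mod_cast he0
      have h4 : (e : ℝ) * (t * ‖(χ : G → ℂ) x‖ ^ 2) = e * ((p : ℝ) - e) := by linear_combination h1
      exact mul_left_cancel₀ he0' h4
    · have h5 : ∑ y : {y : (P : Subgroup G) // y ≠ 1}, (χ : G → ℂ) ((y : (P : Subgroup G)) * 1) = -(d * S.card : ℂ) := by
        have h6 := split (P : Subgroup G) (fun y => (χ : G → ℂ) (y : G))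
        rw [hsum] at h6
        simp only [mul_one]
        linear_combination -h6
      rw [h5, hS] at hw
      have h8 : (w : ℂ) = ((-d : ℤ) : ℂ) := by
        push_cast
        have : (e : ℂ) * w = e * (-d) := by rw [hw]; ring
        exact mul_left_cancel₀ he0 this
      have h9 : w = -d := by exact_mod_cast h8
      rcases hd with rfl | rfl
      · right; exact h9
      · left; rw [h9]; norm_num

/-- the column of `y Z` -/
theorem zval (hK : IsComp p (P : Subgroup G) K) (hP : Nat.card P = p) (hK2 : Nat.card K = 2) {z : G} (hz : z ∈ K)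
    (hp2 : p ≠ 2) {e t : ℕ}
    (he : (centralizer ((P : Subgroup G) : Set G)).relIndex (normalizer ((P : Subgroup G) : Set G)) = e)
    (ht : e * t = p - 1) (χ : IrrCharacter G) :
    zsum (P : Subgroup G) z (χ : G → ℂ) = csum (P : Subgroup G) (χ : G → ℂ) ∨
      zsum (P : Subgroup G) z (χ : G → ℂ) = -csum (P : Subgroup G) (χ : G → ℂ) := by
  classical
  have : Fintype (P : Subgroup G) := Fintype.ofFinite _
  have hzz : (⟨z, hz⟩ : K) * ⟨z, hz⟩ = 1 := by
    have := pow_card_eq_one' (x := (⟨z, hz⟩ : K))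
    rw [hK2, pow_two] at this
    exact this
  have hord : ∀ y : (P : Subgroup G), y ≠ 1 → orderOf (y : G) = p := fun y hy =>
    Blocks.CyclicOrtho.orderOf_eq P hP y.2 fun h => hy (Subtype.ext h)
  rw [csum_eq_zsum, zsum_eq, zsum_eq]
  rcases cases hK hP hK2.le he ht χ with h | ⟨θ, hθ, -⟩
  · left
    refine Finset.sum_congr rfl fun y _ => ?_
    rw [mul_one, h (y : (P : Subgroup G)) (by rw [hord y y.2])]
    refine h _ ?_
    have hcm : Commute ((y : (P : Subgroup G)) : G) z := hK.comm (y : (P : Subgroup G)).2 hz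
    have hoz : orderOf z ∣ 2 := by
      refine orderOf_dvd_of_pow_eq_one ?_
      rw [pow_two]
      exact congrArg Subtype.val hzz
    have hcop : (orderOf ((y : (P : Subgroup G)) : G)).Coprime (orderOf z) := by
      rw [hord y y.2]
      exact Nat.Coprime.coprime_dvd_right hoz ((Nat.coprime_primes hp.out Nat.prime_two).2 hp2)
    rw [hcm.orderOf_mul_eq_mul_orderOf_of_coprime hcop, hord y y.2]
    exact dvd_mul_right _ _
  · rcases theta_invol hzz hK2.le θ with h1 | h1
    · left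
      refine Finset.sum_congr rfl fun y _ => ?_
      rw [mul_one]
      have h2 := hθ y y.2 ⟨z, hz⟩
      rw [h1, mul_one] at h2
      exact h2
    · right
      rw [← Finset.sum_neg_distrib]
      refine Finset.sum_congr rfl fun y _ => ?_
      rw [mul_one]
      have h2 := hθ y y.2 ⟨z, hz⟩
      rw [h1, mul_neg_one] at h2
      exact h2

/-- integrality -/
theorem zdvd (hK : IsComp p (P : Subgroup G) K) (hP : Nat.card P = p) (hK2 : Nat.card K = 2) {z : G}
    (hz : z ∈ K) (hz1 : z ≠ 1) (χ : IrrCharacter G) {c u : ℤ} {e : ℕ} (hc : (χ : G → ℂ) z = c)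
    (hu : (e : ℂ) * u = zsum (P : Subgroup G) z (χ : G → ℂ)) : (p : ℤ) ∣ c + e * u := by
  classical
  have := Fintype.ofFinite (P : Subgroup G)
  have := Fintype.ofFinite K
  have hcomm : ∀ (x : (P : Subgroup G)) (k : K), Commute ((P : Subgroup G).subtype x) (K.subtype k) :=
    fun x k => hK.comm x.2 k.2
  obtain ⟨m, hm⟩ := exists_sum_hom χ (((P : Subgroup G).subtype).noncommCoprod K.subtype hcomm)
  have huniv : (Finset.univ : Finset K) = {1, ⟨z, hz⟩} := by
    symm
    refine Finset.eq_univ_of_card _ ?_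
    rw [Finset.card_pair (fun h => hz1 (congrArg Subtype.val h).symm), ← Nat.card_eq_fintype_card, hK2]
  have hsplit : ∑ x : Prod (P : Subgroup G) K, (χ : G → ℂ) ((((P : Subgroup G).subtype).noncommCoprod K.subtype hcomm) x) =
      ∑ x : (P : Subgroup G), (χ : G → ℂ) x + ∑ x : (P : Subgroup G), (χ : G → ℂ) (x * z) := by
    rw [Fintype.sum_prod_type_right, huniv, Finset.sum_pair (fun h => hz1 (congrArg Subtype.val h).symm)]
    congr 1
    refine Finset.sum_congr rfl fun x _ => ?_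
    simp [MonoidHom.noncommCoprod_apply]
  rw [hsplit, Nat.card_prod, coe_P P hP, hK2] at hm
  obtain ⟨a, ha⟩ := exists_sum χ (P : Subgroup G)
  rw [coe_P P hP] at ha
  have hy' : ∑ x : (P : Subgroup G), (χ : G → ℂ) (x * z) = c + e * u := by
    rw [split (P : Subgroup G) (fun y => (χ : G → ℂ) ((y : G) * z)), Subgroup.coe_one, one_mul, hc, hu, zsum_eq]
  rw [hy', ha] at hm
  refine ⟨2 * m - a, ?_⟩
  have h2 : ((c + e * u : ℤ) : ℂ) = ((p * (2 * m - a) : ℤ) : ℂ) := by
    push_cast
    push_cast at hm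
    linear_combination hm
  exact_mod_cast h2

end Cfsg.Agent.H570.TC.Val
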